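import Groth.Prelude.Def_Versch
import Groth.Prelude.Def_CartDual2
import Groth.Prelude.Def_SGA3b
import Mathlib

/-!
The Verschiebung of a finite projective commutative cocommutative Hopf algebra in coordinates:
dual bases, `v a = ∑ e i ⊗ (φ i ^ p) a`, and the composite with the relative Frobenius.
-/

universe u v w

open TensorProduct WithConv

namespace Groth.VerschLib

variable {R : Type u} [CommRing R] {A : Type v} [CommRing A] [HopfAlgebra R A]

theorem exists_dualBasis (R : Type u) [CommRing R] (A : Type v) [AddCommGroup A] [Module R A]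
    [Module.Finite R A] [Module.Projective R A] :
    ∃ (n : ℕ) (e : Fin n → A) (φ : Fin n → CartDual.D R A), ∀ b : A, ∑ i, φ i b • e i = b := by
  obtain ⟨n, f, g, -, -, hfg⟩ := Module.Finite.exists_comp_eq_id_of_projective R A
  refine ⟨n, fun i => f (Pi.single i 1), fun i => toConv (LinearMap.proj i ∘ₗ g), fun b => ?_⟩
  have h1 : f (g b) = b := LinearMap.congr_fun hfg b
  conv_rhs => rw [← h1, pi_eq_sum_univ' (g b)]
  simp only [map_sum, map_smul]
  rfl

theorem dual_eq_sum {n : ℕ} {e : Fin n → A} {φ : Fin n → CartDual.D R A}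
    (h : ∀ b : A, ∑ i, φ i b • e i = b) (x : CartDual.D R A) : x = ∑ i, x (e i) • φ i := by
  apply WithConv.ext
  apply LinearMap.ext
  intro b
  conv_lhs => rw [← h b]
  simp only [CartDual.coe_apply, map_sum, map_smul, WithConv.ofConv_sum, WithConv.ofConv_smul,
    LinearMap.sum_apply, LinearMap.smul_apply, smul_eq_mul, mul_comm]

/-- Scalar linear forms, read in the convolution ring of endomorphisms. -/
noncomputable def scalarConv : CartDual.D R A →+* WithConv (A →ₗ[R] A) where
  toFun x := toConv (Algebra.linearMap R A ∘ₗ x.ofConv)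
  map_one' := by ext c; simp
  map_mul' f g := by
    apply WithConv.ofConv_injective
    exact LinearMap.algHom_comp_convMul_distrib (Algebra.ofId R A) f g
  map_zero' := by ext c; simp
  map_add' f g := by ext c; simp

theorem scalarConv_apply (x : CartDual.D R A) (a : A) :
    scalarConv x a = algebraMap R A (x a) := rfl

variable (p : ℕ) [Fact p.Prime] [CharP R p] [Coalgebra.IsCocomm R A]

theorem pow_p_apply_one (x : CartDual.D R A) [Module.Finite R A] [Module.Projective R A] :
    (x ^ p) 1 = x 1 ^ p := by
  rw [← CartDual.coalgebra_counit_apply, ← CartDual.coalgebra_counit_apply]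
  exact map_pow (Bialgebra.counitAlgHom R (CartDual.D R A)) x p

theorem pow_p_apply {n : ℕ} {e : Fin n → A} {φ : Fin n → CartDual.D R A}
    (h : ∀ b : A, ∑ i, φ i b • e i = b) (x : CartDual.D R A) (a : A) :
    (x ^ p) a = ∑ i, x (e i) ^ p * (φ i ^ p) a := by
  have h2 : x ^ p = ∑ i, x (e i) ^ p • φ i ^ p := by
    conv_lhs => rw [dual_eq_sum h x, sum_pow_char]
    simp only [smul_pow]
  rw [h2]
  simp [CartDual.coe_apply]

variable [Module.Finite R A] [Module.Projective R A]

theorem evTw_sum_tmul {n : ℕ} (e : Fin n → A) (c : Fin n → FrobAlg.Twist p R)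
    (x : CartDual.D R A) :
    Versch.evTw p R A x (∑ i, e i ⊗ₜ c i) =
      ∑ i, FrobAlg.toTwist p R (x (e i) ^ p) * c i := by
  simp only [map_sum, Versch.evTw_tmul']

/-- The Verschiebung in coordinates. -/
theorem apply_eq_sum {v : A →+* FrobAlg.BaseChange p R A} (hv : Versch.IsVerschiebung p R A v)
    {n : ℕ} {e : Fin n → A} {φ : Fin n → CartDual.D R A} (h : ∀ b : A, ∑ i, φ i b • e i = b)
    (a : A) : v a = ∑ i, e i ⊗ₜ FrobAlg.toTwist p R ((φ i ^ p) a) := by
  apply Versch.evTw_injective p R A
  intro x
  rw [(Versch.isVerschiebung_iff p R A v).1 hv, evTw_sum_tmul, pow_p_apply p h, map_sum]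
  simp only [map_mul]

/-- The Verschiebung is linear along the identity of underlying rings `R → Twist p R`. -/
theorem apply_smul {v : A →+* FrobAlg.BaseChange p R A} (hv : Versch.IsVerschiebung p R A v)
    (r : R) : v (algebraMap R A r) = 1 ⊗ₜ FrobAlg.toTwist p R r := by
  apply Versch.evTw_injective p R A
  intro x
  rw [(Versch.isVerschiebung_iff p R A v).1 hv, Versch.evTw_tmul', ← map_mul]
  rw [Algebra.algebraMap_eq_smul_one, CartDual.coe_apply, map_smul, smul_eq_mul,
    ← CartDual.coe_apply, pow_p_apply_one, mul_comm]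

theorem relFrob_tmul [CharP A p] (a : A) (t : FrobAlg.Twist p R) :
    FrobAlg.relFrob p R A (a ⊗ₜ t) = a ^ p * algebraMap R A ((FrobAlg.toTwist p R).symm t) := by
  simp [FrobAlg.relFrob, FrobAlg.frobHom, FrobAlg.inclHom, Algebra.TensorProduct.lift_tmul]
  rfl

section PowConv

variable {R : Type u} [CommRing R] {A : Type u} [CommRing A] [HopfAlgebra R A]

theorem powConv_apply (n : ℕ) (a : A) :
    SGA3b.powConv R A n a = (toConv (LinearMap.id : A →ₗ[R] A) ^ n) a := by
  have h := AlgHom.toLinearMap_convPow (toConv (AlgHom.id R A)) n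
  exact congrArg (fun f : WithConv (A →ₗ[R] A) => f a) h

theorem powConv_counit (n : ℕ) (a : A) :
    Coalgebra.counit (R := R) (SGA3b.powConv R A n a) = Coalgebra.counit (R := R) a := by
  induction n generalizing a with
  | zero =>
    rw [powConv_apply, pow_zero]
    simp
  | succ n ih =>
    rw [powConv_apply, pow_succ, LinearMap.convMul_apply]
    conv_rhs => rw [← Coalgebra.sum_counit_smul (Coalgebra.Repr.arbitrary R a)]
    rw [← (Coalgebra.Repr.arbitrary R a).eq]
    simp only [map_sum, TensorProduct.map_tmul, LinearMap.mul'_apply, Bialgebra.counit_mul,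
      map_smul, smul_eq_mul]
    refine Finset.sum_congr rfl fun i _ => ?_
    rw [← powConv_apply, ih]
    rfl

variable (p : ℕ) [Fact p.Prime] [CharP R p] [Coalgebra.IsCocomm R A]
  [Module.Finite R A] [Module.Projective R A]

theorem powConv_p_apply [CharP A p] {n : ℕ} {e : Fin n → A} {φ : Fin n → CartDual.D R A}
    (h : ∀ b : A, ∑ i, φ i b • e i = b) (a : A) :
    SGA3b.powConv R A p a = ∑ i, algebraMap R A ((φ i ^ p) a) * e i ^ p := by
  have hinj : Function.Injective (algebraMap A (WithConv (A →ₗ[R] A))) := by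
    intro s t hst
    have h1 := congrArg (fun f : WithConv (A →ₗ[R] A) => f 1) hst
    simpa using h1
  haveI : CharP (WithConv (A →ₗ[R] A)) p := charP_of_injective_algebraMap hinj p
  have hid : toConv (LinearMap.id : A →ₗ[R] A) = ∑ i, e i • scalarConv (φ i) := by
    apply WithConv.ext
    apply LinearMap.ext
    intro b
    simp only [WithConv.ofConv_sum, WithConv.ofConv_smul, LinearMap.sum_apply,
      LinearMap.smul_apply, smul_eq_mul]
    rw [LinearMap.id_apply]
    conv_lhs => rw [← h b]
    refine Finset.sum_congr rfl fun i _ => ?_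
    rw [Algebra.smul_def, mul_comm]
    rfl
  rw [powConv_apply, hid, sum_pow_char]
  simp only [smul_pow, ← map_pow, WithConv.ofConv_sum, WithConv.ofConv_smul,
    LinearMap.sum_apply, LinearMap.smul_apply, smul_eq_mul]
  refine Finset.sum_congr rfl fun i _ => ?_
  rw [mul_comm]
  rfl

theorem relFrob_verschiebung [CharP A p] {v : A →+* FrobAlg.BaseChange p R A}
    (hv : Versch.IsVerschiebung p R A v) (a : A) :
    FrobAlg.relFrob p R A (v a) = SGA3b.powConv R A p a := by
  obtain ⟨n, e, φ, h⟩ := exists_dualBasis R A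
  rw [powConv_p_apply p h, apply_eq_sum p hv h, map_sum]
  refine Finset.sum_congr rfl fun i _ => ?_
  rw [relFrob_tmul, RingEquiv.symm_apply_apply, mul_comm]

end PowConv

end Groth.VerschLib
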